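import Mathlib

/-!
# Hom quotient of Dieudonné modules: `H / (H ∩ V·H)` (helper8)

Abstract version over a PID `W` with a surjective ring endomorphism `σ` and an irreducible
element `π` (for Witt vectors: `σ` = Frobenius, `π = p`), using the Smith normal form of
`VM ⊆ M`.
-/

open Module

namespace Groth.Agent.H8.Dieud

universe u v w

section VMod

variable {W : Type*} [CommRing W] (σ : W →+* W)
variable {N : Type*} [AddCommGroup N] [Module W N] (V : N →+ N)

/-- the image of a `σ⁻¹`-semilinear map, as a submodule -/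
def vSub (hV : ∀ (a : W) (n : N), V (σ a • n) = a • V n) : Submodule W N where
  carrier := Set.range V
  add_mem' := by
    rintro _ _ ⟨x, rfl⟩ ⟨y, rfl⟩
    exact ⟨x + y, map_add V x y⟩
  zero_mem' := ⟨0, map_zero V⟩
  smul_mem' := by
    rintro a _ ⟨x, rfl⟩
    exact ⟨σ a • x, hV a x⟩

lemma span_range_eq (hV : ∀ (a : W) (n : N), V (σ a • n) = a • V n) :
    Submodule.span W (Set.range V) = vSub σ V hV :=
  le_antisymm (Submodule.span_le.2 (fun _ hx => hx)) (fun _ hx => Submodule.subset_span hx)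

lemma mem_span_range_iff (hV : ∀ (a : W) (n : N), V (σ a • n) = a • V n) {x : N} :
    x ∈ Submodule.span W (Set.range V) ↔ ∃ n, V n = x := by
  rw [span_range_eq σ V hV]
  rfl

lemma V_injective [IsDomain W] [Module.Free W N] (F : N →+ N) (π : W) (hπ : π ≠ 0)
    (hFV : ∀ n, F (V n) = π • n) : Function.Injective V := by
  rw [injective_iff_map_eq_zero]
  intro n hn
  have h1 := hFV n
  rw [hn, map_zero] at h1
  rcases smul_eq_zero.1 h1.symm with h | h
  · exact absurd h hπ
  · exact h

lemma part_a {M : Type*} [AddCommGroup M] [Module W M] (hσ : Function.Surjective σ)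
    (VM : M →+ M) (hVM : ∀ (a : W) (m : M), VM (σ a • m) = a • VM m)
    (hV : ∀ (a : W) (n : N), V (σ a • n) = a • V n) (hinj : Function.Injective V)
    (h : M →ₗ[W] N) :
    (∀ m : M, h (VM m) ∈ Submodule.span W (Set.range V)) ↔
      ∃ h' : M →ₗ[W] N, ∀ m : M, h (VM m) = V (h' m) := by
  constructor
  · intro H
    have H' : ∀ m, ∃ n, V n = h (VM m) := fun m => (mem_span_range_iff σ V hV).1 (H m)
    choose φ hφ using H'
    refine ⟨{ toFun := φ, map_add' := ?_, map_smul' := ?_ }, fun m => (hφ m).symm⟩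
    · intro x y
      apply hinj
      rw [map_add, hφ, hφ, hφ, map_add, map_add]
    · intro a x
      obtain ⟨b, rfl⟩ := hσ a
      apply hinj
      simp only [RingHom.id_apply]
      rw [hV, hφ, hφ, hVM, map_smul]
  · rintro ⟨h', hh'⟩ m
    rw [hh']
    exact Submodule.subset_span ⟨_, rfl⟩

end VMod

section SNF

variable {W : Type u} [CommRing W] [IsDomain W] [IsPrincipalIdealRing W]
variable {M : Type v} [AddCommGroup M] [Module W M]
variable {N : Type w} [AddCommGroup N] [Module W N]

lemma finrank_eq_of_smul_mem [Module.Free W M] [Module.Finite W M]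
    (S : Submodule W M) (π : W) (hπ : π ≠ 0) (hS : ∀ m, π • m ∈ S) :
    Module.finrank W S = Module.finrank W M := by
  apply le_antisymm (Submodule.finrank_le S)
  let φ : M →ₗ[W] S := (LinearMap.lsmul W M π).codRestrict S hS
  apply LinearMap.finrank_le_finrank_of_injective (f := φ)
  intro x y hxy
  have h1 : π • x = π • y := congrArg Subtype.val hxy
  exact smul_right_injective M hπ h1

lemma exists_mul_eq {ι : Type*} [Fintype ι] (bM : Basis ι W M) (S : Submodule W M)
    (bS : Basis ι W S) (a : ι → W) (hsnf : ∀ i, (bS i : M) = a i • bM i) (π : W)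
    (hS : ∀ m, π • m ∈ S) (i : ι) : ∃ c, c * a i = π := by
  classical
  obtain ⟨c, hc⟩ := (bS.mem_submodule_iff' (P := S)).1 (hS (bM i))
  refine ⟨c i, ?_⟩
  have h1 := congrArg (fun v => bM.repr v i) hc
  simp only [hsnf, ← mul_smul, bM.repr_sum_self, map_smul, Basis.repr_self, Finsupp.smul_apply,
    Finsupp.single_eq_same, smul_eq_mul, mul_one] at h1
  exact h1.symm

lemma comap_lsmul_of_isUnit (T : Submodule W N) {a : W} (ha : IsUnit a) :
    T.comap (LinearMap.lsmul W N a) = T := by
  ext x
  simp only [Submodule.mem_comap, LinearMap.lsmul_apply]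
  constructor
  · intro h
    obtain ⟨u, rfl⟩ := ha
    have := T.smul_mem (↑u⁻¹ : W) h
    rwa [smul_smul, Units.inv_mul, one_smul] at this
  · exact fun h => T.smul_mem a h

lemma comap_lsmul_of_mul_eq (T : Submodule W N) {a c π : W} (hc : IsUnit c) (h : c * a = π)
    (hT : ∀ x : N, π • x ∈ T) :
    T.comap (LinearMap.lsmul W N a) = ⊤ := by
  rw [eq_top_iff]
  intro x _
  simp only [Submodule.mem_comap, LinearMap.lsmul_apply]
  obtain ⟨u, rfl⟩ := hc
  have := T.smul_mem (↑u⁻¹ : W) (hT x)
  rwa [← h, mul_smul, smul_smul, Units.inv_mul, one_smul] at this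

lemma comap_constr_eq {ι : Type*} [Fintype ι] (bM : Basis ι W M) (S : Submodule W M)
    (bS : Basis ι W S) (a : ι → W) (hsnf : ∀ i, (bS i : M) = a i • bM i)
    (T : Submodule W N) (v : M → M) (hv : ∀ x : M, x ∈ S ↔ ∃ m, v m = x) :
    (⨅ m : M, T.comap (LinearMap.applyₗ (v m) : (M →ₗ[W] N) →ₗ[W] N)).comap
        ((bM.constr W : (ι → N) ≃ₗ[W] (M →ₗ[W] N)) : (ι → N) →ₗ[W] (M →ₗ[W] N))
      = Submodule.pi Set.univ (fun i => T.comap (LinearMap.lsmul W N (a i))) := by
  classical
  ext x
  simp only [Submodule.mem_comap, Submodule.mem_iInf, Submodule.mem_pi, Set.mem_univ,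
    true_imp_iff, LinearMap.applyₗ_apply_apply, LinearMap.lsmul_apply, LinearEquiv.coe_coe]
  constructor
  · intro h i
    obtain ⟨m, hm⟩ := (hv _).1 (bS i).2
    have := h m
    rwa [hm, hsnf, map_smul, Basis.constr_basis] at this
  · intro h m
    obtain ⟨c, hc⟩ := (bS.mem_submodule_iff' (P := S)).1 ((hv _).2 ⟨m, rfl⟩)
    rw [hc, map_sum]
    refine T.sum_mem fun j _ => ?_
    rw [map_smul, hsnf, map_smul, Basis.constr_basis]
    exact T.smul_mem _ (h j)

lemma length_quot_pi {ι : Type*} [Fintype ι] [DecidableEq ι] (P : ι → Submodule W N) :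
    Module.length W ((ι → N) ⧸ Submodule.pi Set.univ P) = ∑ i, Module.length W (N ⧸ P i) := by
  rw [(Submodule.quotientPi P).length_eq, Module.length_pi_of_fintype]

open Classical in
theorem length_hom_quot {ι : Type*} [Fintype ι] [DecidableEq ι] (bM : Basis ι W M)
    (S : Submodule W M)
    (bS : Basis ι W S) (a : ι → W) (hsnf : ∀ i, (bS i : M) = a i • bM i)
    (π : W) (hπ : Irreducible π) (hS : ∀ m, π • m ∈ S)
    (T : Submodule W N) (hT : ∀ x : N, π • x ∈ T)
    (v : M → M) (hv : ∀ x : M, x ∈ S ↔ ∃ m, v m = x) :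
    Module.length W ((M →ₗ[W] N) ⧸
        ⨅ m : M, T.comap (LinearMap.applyₗ (v m) : (M →ₗ[W] N) →ₗ[W] N))
      = ((Finset.univ.filter (fun i => IsUnit (a i))).card : ℕ∞) * Module.length W (N ⧸ T) := by
  obtain ⟨H', hH'⟩ : ∃ H', H' = ⨅ m : M, T.comap
      (LinearMap.applyₗ (v m) : (M →ₗ[W] N) →ₗ[W] N) := ⟨_, rfl⟩
  rw [← hH']
  have h1 : H'.comap ((bM.constr W : (ι → N) ≃ₗ[W] (M →ₗ[W] N)) :
      (ι → N) →ₗ[W] (M →ₗ[W] N)) =
      Submodule.pi Set.univ (fun i => T.comap (LinearMap.lsmul W N (a i))) := by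
    rw [hH']
    exact comap_constr_eq bM S bS a hsnf T v hv
  have h2 : (Submodule.pi Set.univ (fun i => T.comap (LinearMap.lsmul W N (a i)))).map
      ((bM.constr W : (ι → N) ≃ₗ[W] (M →ₗ[W] N)) : (ι → N) →ₗ[W] (M →ₗ[W] N)) = H' := by
    rw [← h1]
    exact Submodule.map_comap_eq_of_surjective (bM.constr W : (ι → N) ≃ₗ[W] (M →ₗ[W] N)).surjective
      H'
  rw [← (Submodule.Quotient.equiv _ _ (bM.constr W : (ι → N) ≃ₗ[W] (M →ₗ[W] N)) h2).length_eq,
    length_quot_pi]
  have h3 : ∀ i, Module.length W (N ⧸ T.comap (LinearMap.lsmul W N (a i))) =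
      if IsUnit (a i) then Module.length W (N ⧸ T) else 0 := by
    intro i
    split_ifs with hu
    · rw [comap_lsmul_of_isUnit T hu]
    · obtain ⟨c, hc⟩ := exists_mul_eq bM S bS a hsnf π hS i
      have hcu : IsUnit c := (hπ.isUnit_or_isUnit hc.symm).resolve_right hu
      rw [comap_lsmul_of_mul_eq T hcu hc hT]
      exact Module.length_eq_zero
  simp_rw [h3]
  rw [Finset.sum_ite, Finset.sum_const_zero, add_zero, Finset.sum_const, nsmul_eq_mul]

open Classical in
theorem length_quot_eq {ι : Type*} [Fintype ι] [DecidableEq ι] (b : Basis ι W M)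
    (S : Submodule W M) (hrk : Module.finrank W S = Module.finrank W M)
    (π : W) (hπ : Irreducible π) (hS : ∀ m, π • m ∈ S) :
    Module.length W (M ⧸ S) =
      ((Finset.univ.filter
        (fun i => ¬ IsUnit (Submodule.smithNormalFormCoeffs b hrk i))).card : ℕ∞) := by
  rw [(Submodule.quotientEquivPiSpan S b hrk).length_eq, Module.length_pi_of_fintype]
  have h3 : ∀ i, Module.length W (W ⧸ Ideal.span {Submodule.smithNormalFormCoeffs b hrk i}) =
      if ¬ IsUnit (Submodule.smithNormalFormCoeffs b hrk i) then 1 else 0 := by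
    intro i
    split_ifs with hu
    · rw [Ideal.span_singleton_eq_top.2 hu]
      exact Module.length_eq_zero
    · obtain ⟨c, hc⟩ := exists_mul_eq (Submodule.smithNormalFormTopBasis b hrk) S
        (Submodule.smithNormalFormBotBasis b hrk) (Submodule.smithNormalFormCoeffs b hrk)
        (Submodule.smithNormalFormBotBasis_def b hrk) π hS i
      have hcu : IsUnit c := (hπ.isUnit_or_isUnit hc.symm).resolve_right hu
      have hspan : Ideal.span {Submodule.smithNormalFormCoeffs b hrk i} = Ideal.span {π} := by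
        rw [← hc]
        exact (Ideal.span_singleton_mul_left_unit hcu _).symm
      rw [hspan]
      have hmax : (Ideal.span {π}).IsMaximal := PrincipalIdealRing.isMaximal_of_irreducible hπ
      exact Module.length_eq_one_iff.2 (isSimpleModule_iff_isCoatom.2 (Ideal.isMaximal_def.1 hmax))
  simp_rw [h3]
  rw [Finset.sum_boole]

lemma part_b {ι : Type*} [Fintype ι] (bM : Basis ι W M) (S : Submodule W M)
    (bS : Basis ι W S) (a : ι → W) (hsnf : ∀ i, (bS i : M) = a i • bM i)
    (π : W) (hπ : Irreducible π) (hS : ∀ m, π • m ∈ S)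
    (T : Submodule W N) (g : S →ₗ[W] N ⧸ T) (hg : ∀ m, g ⟨π • m, hS m⟩ = 0) :
    ∃ h : M →ₗ[W] N, ∀ x : S, T.mkQ (h x) = g x := by
  classical
  let y : ι → N := fun i =>
    Ring.inverse (a i) • Function.surjInv T.mkQ_surjective (g (bS i))
  refine ⟨bM.constr W y, fun x => ?_⟩
  have key : T.mkQ ∘ₗ (bM.constr W y) ∘ₗ S.subtype = g := by
    apply bS.ext
    intro i
    simp only [LinearMap.comp_apply, Submodule.subtype_apply]
    rw [hsnf, map_smul, Basis.constr_basis, map_smul]
    simp only [y, map_smul, Function.surjInv_eq]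
    rw [smul_smul]
    by_cases hu : IsUnit (a i)
    · rw [Ring.mul_inverse_cancel _ hu, one_smul]
    · rw [Ring.inverse_non_unit _ hu, mul_zero, zero_smul]
      obtain ⟨c, hc⟩ := exists_mul_eq bM S bS a hsnf π hS i
      have hcu : IsUnit c := (hπ.isUnit_or_isUnit hc.symm).resolve_right hu
      obtain ⟨u, rfl⟩ := hcu
      have h5 : bS i = ⟨π • ((↑u⁻¹ : W) • bM i), hS _⟩ := by
        apply Subtype.ext
        show (bS i : M) = π • ((↑u⁻¹ : W) • bM i)
        rw [hsnf, smul_smul, ← hc]
        congr 1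
        rw [mul_comm (↑u : W) (a i), mul_assoc, Units.mul_inv, mul_one]
      rw [h5, hg]
  exact LinearMap.congr_fun key x

end SNF

section Main

theorem main_abs {W : Type u} [CommRing W] [IsDomain W] [IsPrincipalIdealRing W]
    (σ : W →+* W) (hσ : Function.Surjective σ) (π : W) (hπ : Irreducible π)
    (M : Type v) [AddCommGroup M] [Module W M] [Module.Free W M] [Module.Finite W M]
    (N : Type w) [AddCommGroup N] [Module W N] [Module.Free W N] [Module.Finite W N]
    (FM VM : M →+ M) (FN VN : N →+ N)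
    (hVM : ∀ (a : W) (m : M), VM (σ a • m) = a • VM m)
    (hVFM : ∀ m : M, VM (FM m) = π • m)
    (hVN : ∀ (a : W) (n : N), VN (σ a • n) = a • VN n)
    (hFVN : ∀ n : N, FN (VN n) = π • n)
    (hVFN : ∀ n : N, VN (FN n) = π • n)
    (r₂ s₁ : ℕ)
    (hr₂ : Module.length W (N ⧸ Submodule.span W (Set.range VN)) = r₂)
    (hs₁ : (Module.finrank W M : ℕ∞) =
      Module.length W (M ⧸ Submodule.span W (Set.range VM)) + s₁) :
    (∀ h : M →ₗ[W] N,
      (∀ m : M, h (VM m) ∈ Submodule.span W (Set.range VN)) ↔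
        ∃ h' : M →ₗ[W] N, ∀ m : M, h (VM m) = VN (h' m)) ∧
    (∀ g : Submodule.span W (Set.range VM) →ₗ[W] N ⧸ Submodule.span W (Set.range VN),
      (∀ m : M, g ⟨VM (FM m), Submodule.subset_span ⟨FM m, rfl⟩⟩ = 0) →
      ∃ h : M →ₗ[W] N, ∀ x : Submodule.span W (Set.range VM),
        (Submodule.span W (Set.range VN)).mkQ (h x) = g x) ∧
    Module.length W ((M →ₗ[W] N) ⧸
      ⨅ m : M, (Submodule.span W (Set.range VN)).comap
        (LinearMap.applyₗ (VM m) : (M →ₗ[W] N) →ₗ[W] N)) = (r₂ * s₁ : ℕ) := by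
  classical
  have hπ0 : π ≠ 0 := hπ.ne_zero
  have hSM : ∀ m : M, π • m ∈ Submodule.span W (Set.range VM) := fun m => by
    rw [← hVFM m]; exact Submodule.subset_span ⟨_, rfl⟩
  have hTN : ∀ n : N, π • n ∈ Submodule.span W (Set.range VN) := fun n => by
    rw [← hVFN n]; exact Submodule.subset_span ⟨_, rfl⟩
  have hinj : Function.Injective VN := V_injective VN FN π hπ0 hFVN
  have hrk : Module.finrank W (Submodule.span W (Set.range VM)) = Module.finrank W M :=
    finrank_eq_of_smul_mem _ π hπ0 hSM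
  let b := Module.Free.chooseBasis W M
  refine ⟨fun h => part_a σ VN hσ VM hVM hVN hinj h, ?_, ?_⟩
  · intro g hg
    refine part_b (Submodule.smithNormalFormTopBasis b hrk) _
      (Submodule.smithNormalFormBotBasis b hrk) (Submodule.smithNormalFormCoeffs b hrk)
      (Submodule.smithNormalFormBotBasis_def b hrk) π hπ hSM _ g (fun m => ?_)
    have h5 : (⟨π • m, hSM m⟩ : Submodule.span W (Set.range VM)) =
        ⟨VM (FM m), Submodule.subset_span ⟨FM m, rfl⟩⟩ := Subtype.ext (hVFM m).symm
    rw [h5]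
    exact hg m
  · rw [length_hom_quot (Submodule.smithNormalFormTopBasis b hrk) _
      (Submodule.smithNormalFormBotBasis b hrk) (Submodule.smithNormalFormCoeffs b hrk)
      (Submodule.smithNormalFormBotBasis_def b hrk) π hπ hSM _ hTN VM
      (fun x => mem_span_range_iff σ VM hVM), hr₂]
    have h6 := length_quot_eq b _ hrk π hπ hSM
    rw [h6, Module.finrank_eq_card_basis b] at hs₁
    have h7 := Finset.card_filter_add_card_filter_not (s := (Finset.univ : Finset _))
      (fun i => IsUnit (Submodule.smithNormalFormCoeffs b hrk i))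
    rw [Finset.card_univ] at h7
    have h8 : Fintype.card (Module.Free.ChooseBasisIndex W M) =
        (Finset.univ.filter
          (fun i => ¬ IsUnit (Submodule.smithNormalFormCoeffs b hrk i))).card + s₁ := by
      exact_mod_cast hs₁
    have h9 : s₁ = (Finset.univ.filter
          (fun i => IsUnit (Submodule.smithNormalFormCoeffs b hrk i))).card := by
      omega
    rw [h9]
    push_cast
    ring

theorem main
    (p : ℕ) [Fact p.Prime] (k : Type u) [Field k] [CharP k p] [PerfectRing k p]
    (M : Type v) [AddCommGroup M] [Module (WittVector p k) M]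
    [Module.Free (WittVector p k) M] [Module.Finite (WittVector p k) M]
    (N : Type w) [AddCommGroup N] [Module (WittVector p k) N]
    [Module.Free (WittVector p k) N] [Module.Finite (WittVector p k) N]
    (FM VM : M →+ M) (FN VN : N →+ N)
    (hVM : ∀ (a : WittVector p k) (m : M), VM (WittVector.frobenius a • m) = a • VM m)
    (hVFM : ∀ m : M, VM (FM m) = (p : WittVector p k) • m)
    (hVN : ∀ (a : WittVector p k) (n : N), VN (WittVector.frobenius a • n) = a • VN n)
    (hFVN : ∀ n : N, FN (VN n) = (p : WittVector p k) • n)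
    (hVFN : ∀ n : N, VN (FN n) = (p : WittVector p k) • n)
    (r₂ s₁ : ℕ)
    (hr₂ : Module.length (WittVector p k) (N ⧸ Submodule.span (WittVector p k) (Set.range VN)) = r₂)
    (hs₁ : (Module.finrank (WittVector p k) M : ℕ∞) =
      Module.length (WittVector p k) (M ⧸ Submodule.span (WittVector p k) (Set.range VM)) + s₁) :
    (∀ h : M →ₗ[WittVector p k] N,
      (∀ m : M, h (VM m) ∈ Submodule.span (WittVector p k) (Set.range VN)) ↔
        ∃ h' : M →ₗ[WittVector p k] N, ∀ m : M, h (VM m) = VN (h' m)) ∧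
    (∀ g : Submodule.span (WittVector p k) (Set.range VM) →ₗ[WittVector p k]
        N ⧸ Submodule.span (WittVector p k) (Set.range VN),
      (∀ m : M, g ⟨VM (FM m), Submodule.subset_span ⟨FM m, rfl⟩⟩ = 0) →
      ∃ h : M →ₗ[WittVector p k] N, ∀ x : Submodule.span (WittVector p k) (Set.range VM),
        (Submodule.span (WittVector p k) (Set.range VN)).mkQ (h x) = g x) ∧
    Module.length (WittVector p k) ((M →ₗ[WittVector p k] N) ⧸
      ⨅ m : M, (Submodule.span (WittVector p k) (Set.range VN)).comap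
        (LinearMap.applyₗ (VM m) : (M →ₗ[WittVector p k] N) →ₗ[WittVector p k] N)) =
        (r₂ * s₁ : ℕ) :=
  main_abs (WittVector.frobenius : WittVector p k →+* WittVector p k)
    (WittVector.frobenius_bijective p k).surjective (p : WittVector p k) (WittVector.irreducible p)
    M N FM VM FN VN hVM hVFM hVN hFVN hVFN r₂ s₁ hr₂ hs₁

end Main

end Groth.Agent.H8.Dieud
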